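import Groth.Agent.AbSch.K630.Coc
import Groth.Agent.AbSch.K452.TorsKit

/-!
# A smooth affine chart with a section for an extension of commutative group schemes

`exists_affine_etale`: `p : U ⟶ T` open and surjective, `T` quasi-compact: there is an affine scheme `X` with an etale
`j : X ⟶ U` such that `j ≫ p` is surjective.
`exists_chart`: for `0 → pts A → E → pts T → 0` on the big fppf site, `A` smooth and `T` quasi-compact there is a smooth
surjective `p : X ⟶ T`, `X` affine, with a section `e` of `E` over `X` lifting `p`.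
-/

set_option autoImplicit false
universe u
open CategoryTheory CategoryTheory.Limits MonoidalCategory CartesianMonoidalCategory MonObj AlgebraicGeometry Opposite

noncomputable section

namespace K595.Chart

/-- A quasi-compact scheme which is the open image of `U` is the image of an affine scheme etale over `U`. -/
theorem exists_affine_etale {U T : Scheme.{u}} (p : U ⟶ T) [CompactSpace T] (hop : IsOpenMap p) [Surjective p] :
    ∃ (X : Scheme.{u}) (j : X ⟶ U), IsAffine X ∧ Etale j ∧ Surjective (j ≫ p) := by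
  have h1 : ∀ t : T, ∃ W : U.affineOpens, t ∈ p '' (W : Set U) := by
    intro t
    obtain ⟨x, rfl⟩ := p.surjective t
    obtain ⟨W, hW, hx, -⟩ := exists_isAffineOpen_mem_and_subset (X := U) (x := x) (U := ⊤) trivial
    exact ⟨⟨W, hW⟩, x, hx, rfl⟩
  choose W hW using h1
  obtain ⟨s, hs⟩ := isCompact_univ.elim_finite_subcover (fun t : T => p '' (W t : Set U))
    (fun t => hop _ (W t).1.2) (fun t _ => Set.mem_iUnion.mpr ⟨t, hW t⟩)
  refine ⟨∐ (fun t : s => ((W t.1 : U.Opens) : Scheme.{u})), Sigma.desc fun t => (W t.1 : U.Opens).ι, ?_, ?_, ?_⟩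
  · have : ∀ t : s, IsAffine ((W t.1 : U.Opens) : Scheme.{u}) := fun t => (W t.1).2
    infer_instance
  · exact IsZariskiLocalAtSource.sigmaDesc fun t => inferInstance
  · refine ⟨fun t => ?_⟩
    obtain ⟨t', ht'⟩ := Set.mem_iUnion.mp (hs (Set.mem_univ t))
    obtain ⟨ht's, x, hx, rfl⟩ := Set.mem_iUnion.mp ht'
    refine ⟨Sigma.ι (fun t : s => ((W t.1 : U.Opens) : Scheme.{u})) ⟨t', ht's⟩ ⟨x, hx⟩, ?_⟩
    rw [← Scheme.Hom.comp_apply, ← Category.assoc, Sigma.ι_desc]
    rfl

open Groth.Agent.Etdl.H432.Sec K452.HomPts K771.HomEv K630.AbExt K594.Elem AlgSp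

theorem exists_chart {S : Scheme.{u}} {T A : Over S} [GrpObj T] [IsCommMonObj T] [GrpObj A] [IsCommMonObj A]
    (D : Dat T A) [Smooth A.hom] [CompactSpace T.left] :
    ∃ (X : Over S) (p : X ⟶ T) (e : Γs D.E X), IsAffine X.left ∧ Smooth p.left ∧ Surjective p.left ∧
      m D.q X e = sec p := by
  have hE := K452.TorsKit.isAlgSpace D.i D.q D.w D.ex
  have hsm := K452.TorsKit.locP_smooth D.i D.q D.w D.ex
  obtain ⟨U, u, hu1, hu2⟩ := hE.atlas
  let e : Γs D.E U := (secEquiv u : (K452.TorsRep.sets.obj D.E).obj.obj (op U))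
  let p : U ⟶ T := pt (m D.q U e)
  have hp : m D.q U e = sec p := (sec_pt _).symm
  have hcomp : u ≫ K452.TorsKit.proj D.q = (yon S).map p ≫ 𝟙 _ := by
    rw [Category.comp_id]
    apply secEquiv.injective
    have h1 : secEquiv (u ≫ K452.TorsKit.proj D.q) = (K452.TorsKit.proj D.q).hom.app (op U) (secEquiv u) := by
      rw [← map_id_apply ((yon S).obj T) (secEquiv (u ≫ K452.TorsKit.proj D.q)), ← yonEquiv_apply]
      change (K452.TorsKit.proj D.q).hom.app (op U) (u.hom.app (op U) ⟨𝟙 U⟩) = _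
      rw [yonEquiv_apply, map_id_apply]
    rw [h1, (K452.TorsKit.proj_app_iff D.q _ p).mpr hp, ← K452.TorsKit.secEquiv_symm_mk, Equiv.apply_symm_apply]
  have hsmp : Smooth p.left := hsm u (𝟙 _) p hu1 (repWith_id _ _) hcomp
  have hsurj : Surjective p.left := by
    refine ⟨fun t => ?_⟩
    obtain ⟨V, g, s, -, -, ⟨v, hv⟩, hs⟩ := D.exists_lift (sec (𝟙 T)) t
    rw [r_sec, Category.comp_id] at hs
    obtain ⟨W, w, ξ, hξ, hwsurj⟩ := RepWith.exists_isRep hu2 (U := V) s
    obtain ⟨x, hx⟩ := hwsurj.surj v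
    obtain ⟨ξ⟩ := ξ
    have h2 := hξ.w
    rw [yonEquiv_apply] at h2
    have h3 : ξ ≫ p = w ≫ g := by
      have h4 : m D.q W (r D.E ξ e) = m D.q W (r D.E w s) := congrArg (m D.q W) h2
      rw [m_r, m_r, hp, hs, r_sec, r_sec] at h4
      exact congrArg pt h4
    refine ⟨ξ.left x, ?_⟩
    rw [← Scheme.Hom.comp_apply, ← Over.comp_left, h3, Over.comp_left, Scheme.Hom.comp_apply, hx, hv]
  obtain ⟨X, j, h1, h2, h3⟩ := exists_affine_etale p.left p.left.isOpenMap
  refine ⟨Over.mk (j ≫ U.hom), Over.homMk j ≫ p, r D.E (Over.homMk j) e, h1, ?_, ?_, ?_⟩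
  · rw [Over.comp_left]
    exact MorphismProperty.comp_mem @Smooth _ _ (inferInstanceAs (Smooth j)) hsmp
  · exact h3
  · rw [m_r, hp, r_sec]

end K595.Chart
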